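import Groth.Agent.EllDivLib.RelDim
import Groth.Agent.AVAmpleLib.DegForm
import Groth.Agent.AVAmpleLib.CountFinite
import Groth.Agent.AVIndexLib.DualHom
import Groth.Agent.SerreVanLib.CurveAmple

/-!
An automorphism of an elliptic curve over an algebraically closed field fixing a subgroup of rank at least five is
the identity.
-/

set_option autoImplicit false
set_option maxHeartbeats 1600000
set_option maxRecDepth 8000
set_option backward.isDefEq.respectTransparency false
set_option linter.style.haveILetI false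
set_option linter.unusedSectionVars false

noncomputable section

universe u

open CategoryTheory CategoryTheory.Limits MonoidalCategory CartesianMonoidalCategory MonObj AlgebraicGeometry
open AVAmpleLib

attribute [local instance] AVAmpleLib.isIntegral_left AVAmpleLib.lofp_hom AVAmpleLib.flat_hom

namespace EllDivLib

variable {k : Type u} [Field k]

/-- A closed subscheme of a finite scheme over a field has at most its rank. -/
theorem finrank_le_of_closed {G K : Scheme.{u}} (j : G ⟶ K) [IsClosedImmersion j] (q : K ⟶ Spec (CommRingCat.of k))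
    [IsFinite q] :
    (j ≫ q).finrank (IsLocalRing.closedPoint k) ≤ q.finrank (IsLocalRing.closedPoint k) := by
  haveI : IsAffine G := isAffine_of_isAffineHom (j ≫ q)
  obtain ⟨σ, hσ⟩ := Spec.map_surjective (G.isoSpec.inv ≫ j ≫ q)
  haveI : IsFinite (G.isoSpec.inv ≫ j ≫ q) := inferInstance
  let Q := Γ(G, ⊤)
  letI : Algebra k Q := σ.hom.toAlgebra
  haveI : Module.Finite k Q := (IsFinite.SpecMap_iff σ).mp (hσ ▸ ‹IsFinite (G.isoSpec.inv ≫ j ≫ q)›)
  haveI : IsFinite (j ≫ q) := inferInstance
  haveI : Flat (j ≫ q) := by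
    have : Flat (Spec.map σ) := Flat.SpecMap_iff.mpr (RingHom.flat_algebraMap_iff.mpr inferInstance)
    rw [hσ] at this
    exact (MorphismProperty.cancel_left_of_respectsIso @Flat G.isoSpec.inv (j ≫ q)).mp this
  have hdeg : (j ≫ q).finrank (IsLocalRing.closedPoint k) = Module.finrank k Q := by
    rw [← Scheme.Hom.finrank_comp_left_of_isIso G.isoSpec.inv (j ≫ q), ← hσ,
      show Spec.map σ = Spec.map (CommRingCat.ofHom (algebraMap k Q)) from rfl,
      Scheme.Hom.finrank_SpecMap_algebraMap, Module.rankAtStalk_eq_finrank_of_free]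
    rfl
  have h := card_mul_finrank_le q (Q := Q) (fun _ : PUnit.{u+1} => G.isoSpec.inv ≫ j) (fun _ => inferInstance)
    (fun _ => by rw [Category.assoc]; exact hσ.symm) (fun a b hab => (hab (Subsingleton.elim a b)).elim)
  rw [Fintype.card_punit, _root_.one_mul] at h
  exact hdeg.le.trans h

variable [IsAlgClosed k] {A : Over (Spec (CommRingCat.of k))} [GrpObj A] [IsCommMonObj A] [IsProper A.hom]
  [GeometricallyIntegral A.hom] (hA : topologicalKrullDim A.left = ((1 : ℕ) : WithBot ℕ∞))

include hA in
/-- A homomorphism of elliptic curves is trivial or finite. -/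
theorem eq_one_or_isFinite (d : A ⟶ A) [IsMonHom d] : d = 1 ∨ IsFinite d.left := by
  let o : A.left := (η[A] : 𝟙_ (Over (Spec (CommRingCat.of k))) ⟶ A).left (IsLocalRing.closedPoint k)
  haveI hcη : IsClosedImmersion (η[A] : 𝟙_ (Over (Spec (CommRingCat.of k))) ⟶ A).left :=
    AVIndexLib.isClosedImmersion_eta A
  by_cases hfin : (d.left ⁻¹' {o}).Finite
  · exact Or.inr (AVIndexLib.isFinite_of_finite_kernel d hfin)
  refine Or.inl ?_
  have hocl : IsClosed ({o} : Set A.left) := by
    have h : Set.range (η[A] : 𝟙_ (Over (Spec (CommRingCat.of k))) ⟶ A).left = {o} :=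
      Set.eq_singleton_iff_unique_mem.2 ⟨⟨_, rfl⟩, by
        rintro _ ⟨z, rfl⟩
        rw [Subsingleton.elim (α := PrimeSpectrum k) z (IsLocalRing.closedPoint k)]⟩
    rw [← h]
    exact hcη.isClosedEmbedding.isClosed_range
  have huniv : d.left ⁻¹' {o} = Set.univ := by
    by_contra hne
    letI : A.left.Over (Spec (CommRingCat.of k)) := ⟨A.hom⟩
    haveI : IsProper (A.left ↘ Spec (CommRingCat.of k)) := ‹IsProper A.hom›
    exact hfin (SerreVanLib.proper_closed_finite k (X := A.left) (by rw [hA]; norm_num) (hocl.preimage d.left.continuous) hne).1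
  let π := Limits.pullback.fst d.left (η[A] : 𝟙_ (Over (Spec (CommRingCat.of k))) ⟶ A).left
  haveI : IsClosedImmersion π := MorphismProperty.pullback_fst (P := @IsClosedImmersion) _ _ hcη
  haveI : Surjective π := ⟨fun x => by
    obtain ⟨z, hz, -⟩ := Scheme.Pullback.exists_preimage_pullback (f := d.left)
      (g := (η[A] : 𝟙_ (Over (Spec (CommRingCat.of k))) ⟶ A).left) x (IsLocalRing.closedPoint k)
      (huniv.ge (Set.mem_univ x) :)
    exact ⟨z, hz⟩⟩
  haveI : AlgebraicGeometry.IsReduced A.left := inferInstance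
  haveI : IsIso π := isIso_of_isClosedImmersion_of_surjective π
  ext1
  have h : d.left = inv π ≫ Limits.pullback.snd d.left _ ≫ (η[A] : 𝟙_ (Over (Spec (CommRingCat.of k))) ⟶ A).left := by
    rw [← Limits.pullback.condition, IsIso.inv_hom_id_assoc]
  have h2 : inv π ≫ Limits.pullback.snd d.left (η[A] : 𝟙_ (Over (Spec (CommRingCat.of k))) ⟶ A).left = A.hom := by
    have hh := congrArg (· ≫ A.hom) h
    simp only [Category.assoc, Over.w] at hh
    exact (hh.trans (congrArg (inv π ≫ ·) (Category.comp_id _))).symm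
  rw [h, ← Category.assoc, h2, Hom.one_def, Over.comp_left]
  rfl

include hA in
/-- The degree is not negative. -/
theorem ndeg_nonneg (φ : EndAV.Hom A A) : 0 ≤ ndeg 1 φ := by
  by_cases h : IsFinite φ.toHom.left
  · rw [ndeg_eq_finrank hA hA φ (genericPoint A.left)]
    positivity
  · haveI : IsFinite (EndAV.Hom.of (𝟙 A)).toHom.left := inferInstanceAs (IsFinite (𝟙 A.left))
    exact (ndeg_eq_zero hA hA (EndAV.Hom.of (𝟙 A)) φ h).ge

include hA in
theorem ndeg_of_isIso (f : A ⟶ A) [IsMonHom f] [IsIso f.left] : ndeg 1 (EndAV.Hom.of f) = 1 := by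
  haveI : IsFinite (EndAV.Hom.of f).toHom.left := inferInstanceAs (IsFinite f.left)
  rw [ndeg_eq_finrank hA hA _ (genericPoint A.left)]
  exact_mod_cast congrFun (Scheme.Hom.finrank_eq_one_of_isIso f.left) _

include hA in
/-- The parallelogram law for the degree. -/
theorem parallelogram (φ ψ : EndAV.Hom A A) :
    ndeg 1 (φ + ψ) + ndeg 1 (φ - ψ) = 2 * ndeg 1 φ + 2 * ndeg 1 ψ := by
  obtain ⟨R, hR, hR'⟩ := exists_ndegPoly hA ![φ, ψ]
  have ev : ∀ a b : ℤ, ndeg 1 (a • φ + b • ψ) = MvPolynomial.eval ![(a : ℚ), (b : ℚ)] R := fun a b => by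
    have := hR' ![a, b]
    simp only [Fin.sum_univ_two, Matrix.cons_val_zero, Matrix.cons_val_one] at this
    rw [this]
    congr 2
    funext i
    fin_cases i <;> simp
  have e1 := ev 1 1
  have e2 := ev 1 (-1)
  have e3 := ev 1 0
  have e4 := ev 0 1
  simp only [one_zsmul, neg_zsmul, zero_zsmul, add_zero, zero_add, ← sub_eq_add_neg] at e1 e2 e3 e4
  rw [e1, e2, e3, e4]
  simp only [MvPolynomial.eval_eq', Finset.mul_sum, ← Finset.sum_add_distrib]
  refine Finset.sum_congr rfl fun d hd => ?_
  have h2 : d 0 + d 1 = 2 := by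
    have := hR (MvPolynomial.mem_support_iff.1 hd)
    simpa [Finsupp.weight_apply, Finsupp.sum_fintype, Fin.sum_univ_two] using this
  have hd0 : d 0 ≤ 2 := by omega
  have hd1 : d 1 = 2 - d 0 := by omega
  simp only [Fin.prod_univ_two, Matrix.cons_val_zero, Matrix.cons_val_one, hd1]
  interval_cases h : d 0 <;> norm_num <;> ring

include hA in
/-- An automorphism fixing a finite subscheme of rank at least five of the kernel of `ε - 1` is trivial. -/
theorem eq_id_of_fix (ε : A ⟶ A) [IsMonHom ε] [IsIso ε.left] (G : Over (Spec (CommRingCat.of k))) [IsFinite G.hom]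
    (i : G ⟶ A) [IsClosedImmersion i.left] (hr : 5 ≤ G.hom.finrank (IsLocalRing.closedPoint k))
    (h : i ≫ ε = i) : ε = 𝟙 A := by
  let φ : EndAV.Hom A A := EndAV.Hom.of ε
  let ι₁ : EndAV.Hom A A := EndAV.Hom.of (𝟙 A)
  let d := (φ - ι₁).toHom
  have hd : d = ε / 𝟙 A := rfl
  rcases eq_one_or_isFinite hA d with hd1 | hfin
  · rw [hd, div_eq_one] at hd1
    exact hd1
  haveI := hfin
  exfalso
  have hbound : ndeg 1 (φ - ι₁) ≤ 4 := by
    have hp := parallelogram hA φ ι₁
    have h0 := ndeg_nonneg hA (φ + ι₁)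
    haveI : IsIso (𝟙 A : A ⟶ A).left := inferInstanceAs (IsIso (𝟙 A.left))
    rw [ndeg_of_isIso hA ε, ndeg_of_isIso hA (𝟙 A)] at hp
    linarith
  let b : A.left := (η[A] : 𝟙_ (Over (Spec (CommRingCat.of k))) ⟶ A).left (IsLocalRing.closedPoint k)
  rw [ndeg_eq_finrank hA hA _ b] at hbound
  haveI := (flat_of_isFinite d hA hA).1
  let e := (η[A] : 𝟙_ (Over (Spec (CommRingCat.of k))) ⟶ A).left
  let q := Limits.pullback.snd d.left e
  have hid : i ≫ d = 1 := by rw [hd, GrpObj.comp_div, h, Category.comp_id, div_self']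
  let j : G.left ⟶ pullback d.left e := Limits.pullback.lift i.left G.hom (congrArg CommaMorphism.left hid)
  haveI : IsClosedImmersion (j ≫ Limits.pullback.fst d.left e) := by
    rw [show j ≫ Limits.pullback.fst d.left e = i.left from Limits.pullback.lift_fst _ _ _]
    infer_instance
  haveI : IsClosedImmersion j := IsClosedImmersion.of_comp j (Limits.pullback.fst d.left e)
  haveI : IsFinite q := MorphismProperty.pullback_snd (P := @IsFinite) _ _ hfin
  have hle := finrank_le_of_closed j q
  have h5 : (5 : ℚ) ≤ (d.left.finrank b : ℚ) := by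
    have h1 : G.hom.finrank (IsLocalRing.closedPoint k) ≤ d.left.finrank b := by
      refine le_trans (le_of_eq ?_) (hle.trans (Scheme.Hom.finrank_pullback_snd d.left e _).le)
      congr 1
      exact (Limits.pullback.lift_snd _ _ _).symm
    exact_mod_cast hr.trans h1
  linarith

end EllDivLib

end
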