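import Groth.Prelude.Def_AgPol
import Groth.Agent.CurvOpenLib.Smooth
import Groth.Agent.FibDimLib.Comps
import Groth.Agent.AbSchLib.Flat
import Groth.Agent.CubeConsLib.GeomInt

/-!
An abelian scheme of relative dimension `g` is smooth of relative dimension `g`.
-/

set_option autoImplicit false
set_option maxHeartbeats 800000
set_option backward.isDefEq.respectTransparency false
set_option linter.style.haveILetI false

noncomputable section

universe u

open CategoryTheory CategoryTheory.Limits AlgebraicGeometry

namespace EllDivLib

theorem smoothOfRelativeDimension {S : Scheme.{u}} {A : Over S} [GrpObj A] {g : ℕ} (h : AgPol.IsAbSch A g) :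
    SmoothOfRelativeDimension g A.hom := by
  haveI := h.smooth
  haveI := h.proper
  haveI := h.geomConnected
  haveI := AbSchLib.geometricallyReduced_of_smooth A.hom
  haveI := CubeConsLib.geometricallyIntegral_of_group A
  refine (CurvOpenLib.smoothOfRelativeDimension_iff_forall g A.hom).2 ⟨inferInstance, fun x => ?_⟩
  let q := A.hom.fiberToSpecResidueField (A.hom x)
  haveI : GeometricallyIntegral q :=
    inferInstanceAs (GeometricallyIntegral (pullback.snd A.hom (S.fromSpecResidueField (A.hom x))))
  haveI : IsProper q := MorphismProperty.pullback_snd (P := @IsProper) _ _ ‹_›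
  haveI : IsIntegral (A.hom.fiber (A.hom x)) := GeometricallyIntegral.isIntegral_of_subsingleton q
  rw [FlatMor.fibreDimAt, FibDimLib.localDim_of_irreducible q, h.fibreDim]

end EllDivLib
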